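/-
The transfer of a saturated fusion system on an element all of whose images are congruent to it.

* `prod_eq_pow_of_cocycle`: a cocycle which is `c ^ n` on the fixed points of `x ^ n` has product
  `c ^ |P|` over every invariant set `P`;
* `inf_focal_le`: if the maps move the elements of a subgroup `Q` within `K ≥ [S,S]`, `K ≤ foc`, then
  `Q ∩ foc ≤ K`.
-/
import Cfsg.Agent.Lib.Yoshida.Fusion

set_option autoImplicit false

namespace Cfsg.Agent.FusionTransfer

open Cfsg Cfsg.FusionSystem Cfsg.Agent.Fusion Cfsg.Agent.Biset Cfsg.Agent.FusionChain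
open scoped Classical commutatorElement

theorem prod_eq_pow_of_cocycle {S O A : Type*} [Group S] [Finite S] [MulAction S O] [CommGroup A]
    (d : S → O → A) (hd : ∀ a b q, d (a * b) q = d b q * d a (b • q)) (x : S) (c : A)
    (hlow : ∀ q n, (x ^ n) • q = q → d (x ^ n) q = c ^ n) (P : Finset O) (hP : ∀ q ∈ P, x • q ∈ P) :
    ∏ q ∈ P, d x q = c ^ P.card := by
  induction P using Finset.strongInduction with
  | _ P ih =>
  rcases P.eq_empty_or_nonempty with rfl | ⟨q, hq⟩
  · simp
  set L := Function.minimalPeriod (fun r => x • r) q with hL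
  have hper : Function.IsPeriodicPt (fun r => x • r) (orderOf x) q := by
    show (fun r => x • r)^[orderOf x] q = q
    rw [smul_iterate]
    show (x ^ orderOf x) • q = q
    rw [pow_orderOf_eq_one, one_smul]
  have hL0 : 0 < L := hper.minimalPeriod_pos (orderOf_pos x)
  have hLq : (x ^ L) • q = q := by
    have := Function.iterate_minimalPeriod (f := fun r => x • r) (x := q)
    rw [smul_iterate] at this
    exact this
  set C := (Finset.range L).image fun i => (x ^ i) • q with hC
  have hinj : Set.InjOn (fun i => (x ^ i) • q) (Finset.range L : Set ℕ) := by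
    intro i hi j hj h
    have := Function.iterate_injOn_Iio_minimalPeriod (f := fun r => x • r) (x := q)
      (Finset.mem_range.1 hi) (Finset.mem_range.1 hj)
    simp only [smul_iterate] at this
    exact this h
  have hCP : C ⊆ P := by
    intro r hr
    obtain ⟨i, -, rfl⟩ := Finset.mem_image.1 hr
    clear hr
    induction i with
    | zero => simpa using hq
    | succ i ih' => rw [pow_succ', mul_smul]; exact hP _ ih'
  have hCx : ∀ r ∈ C, x • r ∈ C := by
    intro r hr
    obtain ⟨i, hi, rfl⟩ := Finset.mem_image.1 hr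
    rw [← mul_smul, ← pow_succ']
    rcases Nat.lt_or_ge (i + 1) L with h | h
    · exact Finset.mem_image.2 ⟨i + 1, Finset.mem_range.2 h, rfl⟩
    · have : i + 1 = L := le_antisymm (Finset.mem_range.1 hi) h
      rw [this, hLq]
      exact Finset.mem_image.2 ⟨0, Finset.mem_range.2 hL0, by simp⟩
  have himg : C.image (fun r => x • r) = C :=
    Finset.eq_of_subset_of_card_le (Finset.image_subset_iff.2 hCx)
      (by rw [Finset.card_image_of_injective _ (MulAction.injective x)])
  have hcard : (P \ C).card + L = P.card := by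
    rw [← Finset.card_sdiff_add_card_eq_card hCP, hC, Finset.card_image_of_injOn hinj,
      Finset.card_range]
  have hrest : ∏ r ∈ P \ C, d x r = c ^ (P \ C).card := by
    refine ih _ ?_ (fun r hr => ?_)
    · exact Finset.sdiff_ssubset hCP
        ⟨q, Finset.mem_image.2 ⟨0, Finset.mem_range.2 hL0, by simp⟩⟩
    · obtain ⟨hrP, hrC⟩ := Finset.mem_sdiff.1 hr
      refine Finset.mem_sdiff.2 ⟨hP r hrP, fun h => hrC ?_⟩
      rw [← himg] at h
      obtain ⟨u, hu, he⟩ := Finset.mem_image.1 h
      rwa [← MulAction.injective x he]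
  rw [← Finset.prod_sdiff hCP, hrest, ← hcard, pow_add]
  congr 1
  rw [hC, Finset.prod_image hinj, Yoshida.prod_range_cocycle d hd]
  exact hlow q L hLq

variable {Ω : Type*} [Group Ω] {S : Subgroup Ω} {F : FusionSystem S} {p : ℕ}

/-- Elements of the focal subgroup whose images are all congruent to them modulo `K`. -/
theorem inf_focal_le [Finite S] [hp : Fact p.Prime] (hS : IsPGroup p S) (hF : F.IsSaturated p)
    {Q K : Subgroup Ω} (hcomm : (commutator S).map S.subtype ≤ K) (hKfoc : K ≤ F.focalSubgroup)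
    (hgood : ∀ (P : Subgroup Ω) (f : Ω → Ω), IsMap F P f → ∀ z ∈ P, z ∈ Q → z⁻¹ * f z ∈ K) :
    Q ⊓ F.focalSubgroup ≤ K := by
  rintro z₀ ⟨hzQ, hzf⟩
  set z : S := ⟨z₀, focalSubgroup_le hzf⟩
  set K₀ : Subgroup S := K.subgroupOf S
  have hcK : commutator S ≤ K₀ := fun u hu => hcomm ⟨u, hu, rfl⟩
  haveI : K₀.Normal := ⟨fun n hn g => by
    have := K₀.mul_mem (hcK (Subgroup.commutator_mem_commutator (Subgroup.mem_top g)
      (Subgroup.mem_top n))) hn
    simpa [commutatorElement_def] using this⟩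
  letI : CommGroup (S ⧸ K₀) :=
    { (inferInstance : Group (S ⧸ K₀)) with
      mul_comm := fun a b => (Subgroup.Normal.quotient_commutative_iff_commutator_le.2 hcK).is_comm.comm a b }
  set ab : S →* S ⧸ K₀ := QuotientGroup.mk' K₀
  obtain ⟨c, hc, hdeg⟩ := exists_characteristic hS hF
  haveI : Finite (ROrb c) := Quotient.finite _
  letI := Fintype.ofFinite (ROrb c)
  have hs : IsSection (c := c) Quotient.out := fun q => Quotient.out_eq q
  let τ : S →* S ⧸ K₀ := MonoidHom.mk' (transferVal ab hs) (transferVal_mul hc.1 ab hs)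
  have hker : F.focalSubgroup ≤ τ.ker.map S.subtype := by
    refine (Subgroup.closure_le _).2 ?_
    rintro _ ⟨P, φ, u, hφ, rfl⟩
    let u' : S := ⟨u, (F.le_of_mem hφ).1 u.2⟩
    let v' : S := ⟨φ u, (F.le_of_mem hφ).2 u⟩
    refine ⟨u'⁻¹ * v', ?_, rfl⟩
    show τ _ = 1
    rw [map_mul, map_inv, inv_mul_eq_one]
    exact (Yoshida.transferVal_invariant hc ab (isMap_toFn hφ) u' v' u.2 (toFn_coe φ u).symm).symm
  have hτ : ∏ q, ab (coord hs z q) = 1 := by
    obtain ⟨w, hw, hwe⟩ := hker hzf
    obtain rfl : w = z := Subtype.ext hwe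
    exact hw
  have hprod : ∏ q, ab (coord hs z q) = ((ab z)⁻¹) ^ Fintype.card (ROrb c) := by
    refine prod_eq_pow_of_cocycle (fun a q => ab (coord hs a q)) (fun a b q => ?_) z (ab z)⁻¹
      (fun q n hq => ?_) Finset.univ (fun q _ => Finset.mem_univ _)
    · show ab _ = ab _ * ab _
      rw [Yoshida.coord_mul hc.1 hs, map_mul]
    · obtain ⟨f, hf, he⟩ := Yoshida.exists_map_coord hc.1 hs (Subgroup.zpowers (z ^ n)) q
        fun a ha => by
          obtain ⟨k, rfl⟩ := ha
          exact zpow_mem (show z ^ n ∈ MulAction.stabilizer S q from hq) k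
      have hm : ((z ^ n : S) : Ω) ∈ (Subgroup.zpowers (z ^ n)).map S.subtype :=
        ⟨_, Subgroup.mem_zpowers _, rfl⟩
      have hv := he (z ^ n) (Subgroup.mem_zpowers _)
      have hmemK : (z ^ n)⁻¹ * (coord hs (z ^ n) q)⁻¹ ∈ K₀ := by
        rw [Subgroup.mem_subgroupOf, Subgroup.coe_mul, hv, Subgroup.coe_inv]
        exact hgood _ f hf _ hm (by rw [Subgroup.coe_pow]; exact pow_mem hzQ n)
      have h1 : ab (z ^ n) = ab (coord hs (z ^ n) q)⁻¹ := QuotientGroup.eq.2 hmemK
      show ab (coord hs (z ^ n) q) = (ab z)⁻¹ ^ n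
      rw [inv_pow, ← map_pow, h1, map_inv, inv_inv]
  rw [hτ, inv_pow, eq_comm, inv_eq_one] at hprod
  have hk := FusionTate.not_dvd_card_rorb hc.1 hdeg
  obtain ⟨m, hm⟩ := (hS.to_quotient K₀) (ab z)
  have hg : (ab z) ^ Nat.gcd (Fintype.card (ROrb c)) (p ^ m) = 1 := pow_gcd_eq_one.2 ⟨hprod, hm⟩
  rw [Nat.Coprime.gcd_eq_one (Nat.Coprime.pow_right m ((hp.out.coprime_iff_not_dvd.2 hk).symm)),
    pow_one] at hg
  exact (QuotientGroup.eq_one_iff z).1 hg

end Cfsg.Agent.FusionTransfer
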