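/-
Functors controlling transfer in the models control transfer in saturated fusion systems.

Main results (namespace `Cfsg.Agent.FusionTransfer`):
* `Good`, `focal_le_of_good`, `good_induction`;
* `focal_le_normalizer`: `foc F ≤ foc N_F(W S)` for a functor with the local focal condition.
-/
import Cfsg.Agent.Lib.FusionTransfer.Cycles
import Cfsg.Agent.Lib.Fusion.Induction
import Cfsg.Agent.Lib.Fusion.GroupBridge
import Cfsg.Agent.Lib.Fusion.LocalModel
import Cfsg.Agent.Lib.Fusion.NormalSeries
import Cfsg.Agent.Lib.Fusion.Realized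
import Cfsg.Agent.Lib.Transfer.Focal

set_option autoImplicit false

namespace Cfsg.Agent.FusionTransfer

open Cfsg Cfsg.FusionSystem Cfsg.Agent.Fusion Cfsg.Agent.FusionChain
open scoped Classical commutatorElement

universe u

variable {Ω : Type u} [Group Ω] {S : Subgroup Ω} {F : FusionSystem S} {p : ℕ}

/-- `f` moves the elements of `M` within `K`. -/
def Good (K M : Subgroup Ω) (f : Ω → Ω) : Prop := ∀ x ∈ M, x⁻¹ * f x ∈ K

theorem focal_le_of_good {K : Subgroup Ω} (h : ∀ P f, IsMap F P f → Good K P f) :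
    F.focalSubgroup ≤ K := by
  refine (Subgroup.closure_le _).2 ?_
  rintro _ ⟨P, φ, x, hφ, rfl⟩
  have := h P (toFn φ) (isMap_toFn hφ) x x.2
  rwa [toFn_coe] at this

/-- Goodness on the large domains follows from the automizers of the large radicals. -/
theorem good_induction [Finite S] [Fact p.Prime] (hS : IsPGroup p S) (hF : F.IsSaturated p)
    {K : Subgroup Ω} (t : ℕ)
    (hbase : ∀ R : Subgroup Ω, F.IsFullyNormalized R → F.IsCentric R → t < Nat.card R →
      ∀ α ∈ F.autGroup R, Good K R (autFn α))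
    {P : Subgroup Ω} {f : Ω → Ω} (hf : IsMap F P f) : t < Nat.card P → Good K P f := by
  refine alperin_induction hS hF (fun P f => t < Nat.card P → Good K P f) ?_ ?_ ?_ ?_ hf
  · intro P f g _ h e ht x hx
    rw [← e x hx]
    exact h ht x hx
  · intro P P' f hf' hle h ht x hx
    have := finite_of_le hf'.le
    exact h (lt_of_lt_of_le ht (Subgroup.card_le_of_le hle)) x (hle hx)
  · intro P P' f g hf' hg hfP h h' ht x hx
    have hP' : Nat.card P ≤ Nat.card P' := by
      have := finite_of_le hg.le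
      rw [← hf'.card_img le_rfl]
      exact Subgroup.card_le_of_le (hf'.img_le le_rfl hfP)
    have := K.mul_mem (h ht x hx) (h' (lt_of_lt_of_le ht hP') (f x) (hfP x hx))
    simpa [mul_assoc] using this
  · intro R hR hc _ α hα _ ht
    exact hbase R hR hc ht α hα

/-- The generators of the focal subgroup of a normalizer system. -/
theorem focal_normalizer_le [Finite S] {X : Subgroup Ω} (hX : X ≤ S)
    {E : FusionSystem (normalizerIn S X)} (hE : F.IsNormalizerSystem X E) {K : Subgroup Ω}
    (h : ∀ (M : Subgroup Ω) (f : Ω → Ω), IsMap F M f → X ≤ M → M ≤ normalizerIn S X →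
      (∀ x ∈ M, f x ∈ normalizerIn S X) → (∀ x ∈ X, f x ∈ X) → Good K M f) :
    E.focalSubgroup ≤ K := by
  refine focal_le_of_good fun P f hf => ?_
  obtain ⟨hP, hfN, f', hf', e, hX'⟩ := (isMap_normalizer_iff hX hE).1 hf
  intro x hx
  rw [← e x hx]
  refine h (P ⊔ X) f' hf' le_sup_right (sup_le hP (le_normalizerIn hX)) (fun y hy => ?_) hX' x
    (Subgroup.mem_sup_left hx)
  exact hf'.forall_mem_sup le_sup_left le_sup_right (fun z hz => e z hz ▸ hfN z hz)
    (fun z hz => le_normalizerIn hX (hX' z hz)) hy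

/-- The maps preserving `X` move their elements within the focal subgroup of `N_F(X)`. -/
theorem good_normalizer [Finite S] {X : Subgroup Ω} (hX : X ≤ S)
    {E : FusionSystem (normalizerIn S X)} (hE : F.IsNormalizerSystem X E) {M : Subgroup Ω}
    {f : Ω → Ω} (hf : IsMap F M f) (hXM : X ≤ M) (hM : M ≤ normalizerIn S X)
    (hfM : ∀ x ∈ M, f x ∈ normalizerIn S X) (hfX : ∀ x ∈ X, f x ∈ X) :
    Good E.focalSubgroup M f := fun _ hx =>
  inv_mul_map_mem_focal ((isMap_normalizer_iff hX hE).2
    ⟨hM, hfM, f, hf.mono (sup_le le_rfl hXM), fun _ _ => rfl, hfX⟩) hx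

section Func

variable (W : ∀ (Q : Type u) [Group Q], Subgroup Q)

theorem func_le {G : Type u} [Group G] (P : Subgroup G) : inducedFunctor W P ≤ P :=
  Subgroup.map_subtype_le _

theorem func_ne_bot (hW : IsCharPFunctor.{u} p W) {G : Type u} [Group G] {P : Subgroup G} [Finite P]
    (hP : IsPGroup p P) (hne : P ≠ ⊥) : inducedFunctor W P ≠ ⊥ := fun h =>
  hW.1 ↥P hP ((Subgroup.nontrivial_iff_ne_bot P).2 hne)
    ((Subgroup.map_eq_bot_iff_of_injective _ P.subtype_injective).1 h)

variable {W}

/-- An isomorphism of the system carries `W` to `W`. -/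
theorem func_mem [Finite S] (hS : IsPGroup p S) (hW : IsCharPFunctor.{u} p W) {P R : Subgroup Ω}
    {f : Ω → Ω} (h : IsIso F P R f) {x : Ω} (hx : x ∈ inducedFunctor W P) :
    f x ∈ inducedFunctor W R := by
  obtain ⟨u, hu, rfl⟩ := hx
  have := finite_of_le h.le_left
  have he := hW.2 ↥P ↥R (hS.to_le h.le_left) h.equiv
  refine ⟨h.equiv u, ?_, IsIso.equiv_apply h u⟩
  rw [← he]
  exact ⟨u, hu, rfl⟩

theorem func_normalizer [Finite S] (hS : IsPGroup p S) (hW : IsCharPFunctor.{u} p W) {T : Subgroup Ω}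
    (hT : T ≤ S) : normalizerIn S T ≤ normalizerIn S (inducedFunctor W T) := by
  intro g hg
  have := finite_of_le ((func_le W T).trans hT)
  refine mem_normalizerIn_of_conj hg.1 fun x hx => ?_
  have hf := IsMap.conj (F := innerFusionSystem S) hT hg.1
  exact func_mem hS hW ⟨hf, eq_of_le_of_card hT
    (hf.img_le le_rfl fun y hy => normalizerIn_conj hg hy) (hf.card_img le_rfl).ge⟩ hx

theorem func_fullyNormalized [Finite S] (hS : IsPGroup p S) (hW : IsCharPFunctor.{u} p W) :
    normalizerIn S (inducedFunctor W S) = S ∧ F.IsFullyNormalized (inducedFunctor W S) := by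
  have h : normalizerIn S (inducedFunctor W S) = S :=
    le_antisymm inf_le_left ((normalizerIn_self S).ge.trans (func_normalizer hS hW le_rfl))
  exact ⟨h, func_le W S, fun Q _ => h.symm ▸ Subgroup.card_le_of_le inf_le_left⟩

/-- The image of `W S` under an embedding. -/
theorem func_image [Finite S] (hS : IsPGroup p S) (hW : IsCharPFunctor.{u} p W) {L : Type u} [Group L]
    (ι : S →* L) (hι : Function.Injective ι) :
    ((inducedFunctor W S).subgroupOf S).map ι = inducedFunctor W ι.range := by
  have he := hW.2 ↥S ↥ι.range hS (MonoidHom.ofInjective hι)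
  show (((W ↥S).map S.subtype).comap S.subtype).map ι = (W ↥ι.range).map ι.range.subtype
  rw [Subgroup.comap_map_eq_self_of_injective S.subtype_injective, ← he, Subgroup.map_map]
  rfl

end Func

/-- An automorphism of a normal subgroup extends to `Q C_S(Q)`. -/
theorem exists_ext_centralizer [Finite S] [Fact p.Prime] (hS : IsPGroup p S) (hF : F.IsSaturated p)
    {Q : Subgroup Ω} (hQ : F.IsNormal Q) {α : MulAut Q} (hα : α ∈ F.autGroup Q) :
    ∃ g, IsMap F (Q ⊔ centralizerIn S Q) g ∧ (∀ x ∈ Q, g x = autFn α x) ∧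
      ∀ x ∈ Q ⊔ centralizerIn S Q, g x ∈ Q ⊔ centralizerIn S Q := by
  have hQn := normalizes_of_stronglyClosed (Fusion.stronglyClosed_of_normal hQ)
  have hQfn : F.IsFullyNormalized Q := ⟨hQ.1, fun R _ =>
    (Subgroup.card_le_of_le inf_le_left).trans_eq
      (congrArg (fun X : Subgroup Ω => Nat.card X) (inf_eq_left.2 hQn).symm)⟩
  obtain ⟨g, hg, hgα⟩ := exists_extension
    (receptive_of_fullyNormalized hS hF hQfn) hα (centralizerIn_le_normalizerIn S Q) fun c hc' => by
      rw [(normConj_eq_one_iff _).2 hc', mul_one, mul_inv_cancel]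
      exact Subgroup.one_mem _
  refine ⟨g, hg, hgα, fun x hx => hg.forall_mem_sup le_sup_left le_sup_right
    (fun u hu => Subgroup.mem_sup_left (hgα u hu ▸ autFn_mem α hu))
    (fun c hc' => Subgroup.mem_sup_right (mem_centralizerIn_of_conj (hg.mem
      (Subgroup.mem_sup_right hc')) fun z hz => ?_)) hx⟩
  obtain ⟨u, hu, rfl⟩ : ∃ u ∈ Q, g u = z :=
    ⟨(α⁻¹ ⟨z, hz⟩ : Q), Subtype.prop _, by
      rw [hgα _ (Subtype.prop _), autFn_apply α (Subtype.prop _)]; simp⟩
  rw [← hg.map_conj (Subgroup.mem_sup_right hc') (Subgroup.mem_sup_left hu), centralizerIn_conj hc' hu]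

/-- A functor controlling transfer in the constrained groups controls transfer in saturated systems. -/
theorem focal_le_normalizer [Fact p.Prime] (W : ∀ (Q : Type u) [Group Q], Subgroup Q)
    (hW : IsCharPFunctor.{u} p W)
    (hT : ∀ (G : Type u) [Group G] [Finite G] (P : Sylow p G),
      Subgroup.centralizer ((Cfsg.pCore p G : Subgroup G) : Set G) ≤ Cfsg.pCore p G →
      ∀ x ∈ Cfsg.pCore p G, x ∈ commutator G →
        x ∈ ⁅Subgroup.normalizer ((inducedFunctor W (P : Subgroup G) : Subgroup G) : Set G),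
          Subgroup.normalizer ((inducedFunctor W (P : Subgroup G) : Subgroup G) : Set G)⁆)
    {Ω : Type u} [Group Ω] {S : Subgroup Ω} [Finite S] (hS : IsPGroup p S) (F : FusionSystem S)
    (hF : F.IsSaturated p) (N : FusionSystem (normalizerIn S (inducedFunctor W S)))
    (hN : F.IsNormalizerSystem (inducedFunctor W S) N) : F.focalSubgroup ≤ N.focalSubgroup := by
  refine system_induction (fun Ω _ S F => Finite S → IsPGroup p S → F.IsSaturated p →
    ∀ N : FusionSystem (normalizerIn S (inducedFunctor W S)),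
      F.IsNormalizerSystem (inducedFunctor W S) N → F.focalSubgroup ≤ N.focalSubgroup)
    (fun Ω _ S F ih hfin hS hF N hN => ?_) Ω S F inferInstance hS hF N hN
  have hwle := func_le W S
  obtain ⟨hwN, -⟩ := func_fullyNormalized (F := F) hS hW
  set K := N.focalSubgroup with hK
  have hKF : K ≤ F.focalSubgroup := focal_normalizer_le hwle hN fun M f hf _ _ _ _ x hx =>
    inv_mul_map_mem_focal hf hx
  -- maps preserving `W S`
  have hgoodW : ∀ M f, IsMap F M f → inducedFunctor W S ≤ M →
      (∀ x ∈ inducedFunctor W S, f x ∈ inducedFunctor W S) → Good K M f := fun M f hf hM hfw =>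
    good_normalizer hwle hN hf hM (hwN.symm ▸ hf.le) (fun x hx => hwN.symm ▸ hf.mem hx) hfw
  have hgoodS : ∀ f, IsMap F S f → Good K S f := fun f hf =>
    hgoodW S f hf hwle fun x hx => func_mem hS hW
      ⟨hf, eq_of_le_of_card le_rfl hf.img_le_S (hf.card_img le_rfl).ge⟩ hx
  have hcomm : (commutator S).map S.subtype ≤ K := by
    rw [Subgroup.map_le_iff_le_comap, commutator_eq_closure, Subgroup.closure_le]
    rintro _ ⟨a, b, rfl⟩
    have := hgoodS _ (IsMap.conj (F := F) (le_refl S) a.2) (b⁻¹ : S) (b⁻¹ : S).2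
    show ((⁅a, b⁆ : S) : Ω) ∈ K
    have h2 := K.inv_mem this
    simpa [commutatorElement_def, mul_assoc] using h2
  -- normalizers of non-normal subgroups normal in `S`
  have htop : ∀ X : Subgroup Ω, X ≤ S → normalizerIn S X = S → ¬ F.IsNormal X →
      ∀ M f, IsMap F M f → X ≤ M → (∀ x ∈ X, f x ∈ X) → Good K M f := by
    intro X hX hXS hn M f hf hXM hfX
    have hXfn : F.IsFullyNormalized X := ⟨hX, fun R _ =>
      hXS.symm ▸ Subgroup.card_le_of_le inf_le_left⟩
    obtain ⟨E, hE⟩ := exists_normalizerSystem (F := F) hX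
    have : Finite (normalizerIn S X) := finite_of_le (S := S) inf_le_left
    have hwE : inducedFunctor W (normalizerIn S X) = inducedFunctor W S :=
      congrArg (fun T : Subgroup Ω => inducedFunctor W T) hXS
    have hwX := func_le W (normalizerIn S X)
    obtain ⟨N', hN'⟩ := exists_normalizerSystem (F := E) hwX
    have hle := ih Ω _ E (smaller_normalizer hX hn hE) inferInstance (hS.to_le inf_le_left)
      (isSaturated_normalizer hS hF hXfn hE) N' hN'
    have hK' : N'.focalSubgroup ≤ K := focal_normalizer_le hwX hN' fun M' f' hf' hwM _ _ hfw =>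
      hgoodW M' f' (isMap_sub (sub_normalizer hE) hf') (hwE ▸ hwM) (hwE ▸ hfw)
    intro x hx
    exact hK' (hle (good_normalizer hX hE hf hXM (hXS.symm ▸ hf.le)
      (fun y hy => hXS.symm ▸ hf.mem hy) hfX x hx))
  by_cases hcore : ∃ U, F.IsNormal U ∧ U ≠ ⊥
  swap
  · -- no normal subgroup
    push Not at hcore
    have hbig : ∀ d t, Nat.card S ≤ t + d → ∀ P f, IsMap F P f → t < Nat.card P → Good K P f := by
      intro d
      induction d using Nat.strong_induction_on with
      | _ d ihd =>
      intro t hd P f hf ht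
      -- normalizer systems above `t`
      have hkey : ∀ n, ∀ X : Subgroup Ω, Nat.card S - Nat.card (normalizerIn S X) = n →
          F.IsFullyNormalized X → X ≠ ⊥ → t < Nat.card (normalizerIn S X) →
          ∀ M f, IsMap F M f → X ≤ M → M ≤ normalizerIn S X →
            (∀ x ∈ M, f x ∈ normalizerIn S X) → (∀ x ∈ X, f x ∈ X) → Good K M f := by
        intro n
        induction n using Nat.strong_induction_on with
        | _ n ihn =>
        intro X hn hX hne htX M f hf hXM hM hfM hfX
        have hnn : ¬ F.IsNormal X := fun h => hne (hcore X h)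
        by_cases hXS : normalizerIn S X = S
        · exact htop X hX.1 hXS hnn M f hf hXM hfX
        set T := normalizerIn S X with hTdef
        obtain ⟨E, hE⟩ : ∃ E : FusionSystem T, F.IsNormalizerSystem X E :=
          exists_normalizerSystem (F := F) hX.1
        have hTS : T ≤ S := inf_le_left
        have : Finite T := finite_of_le hTS
        have hTne : T ≠ ⊥ := fun h => hne (le_bot_iff.1 (h ▸ le_normalizerIn hX.1))
        have hZT := func_le W T
        set Z := inducedFunctor W T with hZdef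
        have hZS := hZT.trans hTS
        have hZne : Z ≠ ⊥ := func_ne_bot W hW (hS.to_le hTS) hTne
        obtain ⟨N', hN'⟩ := exists_normalizerSystem (F := E) hZT
        have hle := ih Ω _ E (smaller_normalizer hX.1 hnn hE) inferInstance (hS.to_le hTS)
          (isSaturated_normalizer hS hF hX hE) N' hN'
        obtain ⟨Y, g, hYn, hg, hgY, hgN⟩ := exists_fullyNormalized_map hS hF hZS
        set D := normalizerIn S Z
        have hlt : T < normalizerIn S T := lt_normalizerIn hS le_rfl (lt_of_le_of_ne hTS hXS)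
        have hTD : Nat.card T < Nat.card D := by
          have : Finite (normalizerIn S T) := finite_of_le (S := S) inf_le_left
          have : Finite D := finite_of_le (S := S) inf_le_left
          refine lt_of_lt_of_le (lt_of_le_of_ne (Subgroup.card_le_of_le hlt.le) fun e =>
            hlt.ne (Subgroup.eq_of_le_of_card_ge hlt.le e.ge)) ?_
          exact Subgroup.card_le_of_le (func_normalizer hS hW hTS)
        have hDY : Nat.card D ≤ Nat.card (normalizerIn S Y) := by
          have : Finite (normalizerIn S Y) := finite_of_le (S := S) inf_le_left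
          rw [← hg.card_img le_rfl]
          exact Subgroup.card_le_of_le (hg.img_le le_rfl hgN)
        have hcardS : Nat.card (normalizerIn S Y) ≤ Nat.card S := Subgroup.card_le_of_le inf_le_left
        have hgood : Good K D g := ihd (Nat.card S - Nat.card T) (by omega) (Nat.card T) (by omega)
          D g hg hTD
        have hYne : Y ≠ ⊥ := fun h => hZne (le_bot_iff.1 fun z hz => by
          have hz' : z ∈ D := le_normalizerIn hZS hz
          have h1 : g z ∈ Y := hgY ▸ hg.mem_img hz
          rw [h, Subgroup.mem_bot, ← hg.map_one] at h1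
          exact Subgroup.mem_bot.2 (hg.inj hz' (one_mem _) h1))
        have hK' : N'.focalSubgroup ≤ K := by
          refine focal_normalizer_le hZT hN' fun M' f' hf'E hZM hM' hfM' hfZ => ?_
          have hf' := isMap_sub (sub_normalizer hE) hf'E
          have hM'D : M' ≤ D := hM'.trans (inf_le_inf_right _ hTS)
          have hfD : ∀ x ∈ M', f' x ∈ D := fun x hx => inf_le_inf_right _ hTS (hfM' x hx)
          obtain ⟨gi, hgi, hgil, -⟩ := ((hg.mono hM'D).isIso).symm
          have hcomp : IsMap F (img g M') (fun y => g (f' (gi y))) :=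
            (hgi.1.comp hf' fun y hy => hgi.mem hy).comp hg fun y hy => hfD _ (hgi.mem hy)
          have hYM : Y ≤ img g M' := hgY ▸ hg.img_le (le_normalizerIn hZS)
            fun z hz => hg.mem_img (hZM hz)
          have hY' : ∀ y ∈ Y, g (f' (gi y)) ∈ Y := by
            intro y hy
            rw [← hgY] at hy ⊢
            obtain ⟨z, hz, rfl⟩ := (hg.mem_img_iff (le_normalizerIn hZS)).1 hy
            rw [hgil z (hZM hz)]
            exact hg.mem_img (hfZ z hz)
          have h1 : Good K (img g M') (fun y => g (f' (gi y))) :=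
            ihn (Nat.card S - Nat.card (normalizerIn S Y)) (by omega) Y rfl hYn hYne (by omega)
              (img g M') _ hcomp hYM (hg.img_le hM'D fun x hx => hgN x (hM'D hx))
              (fun y hy => hgN _ (hfD _ (hgi.mem hy))) hY'
          intro x hx
          have h2 := h1 (g x) (hg.mem_img hx)
          simp only [hgil x hx] at h2
          have h3 := hgood x (hM'D hx)
          have h4 := hgood (f' x) (hfD x hx)
          have := K.mul_mem (K.mul_mem h3 h2) (K.inv_mem h4)
          simpa [mul_assoc] using this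
        intro x hx
        exact hK' (hle (good_normalizer hX.1 hE hf hXM hM hfM hfX x hx))
      refine good_induction hS hF t (fun R hR _ htR α hα => ?_) hf ht
      have := finite_of_le (S := S) (P := normalizerIn S R) inf_le_left
      have htN : t < Nat.card (normalizerIn S R) :=
        lt_of_lt_of_le htR (Subgroup.card_le_of_le (le_normalizerIn hR.1))
      by_cases hRne : R = ⊥
      · intro x hx
        obtain rfl : x = 1 := by rwa [hRne, Subgroup.mem_bot] at hx
        rw [(isIso_autFn hR.1 hα).1.map_one, inv_one, one_mul]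
        exact one_mem _
      exact hkey _ R rfl hR hRne htN R (autFn α) (isIso_autFn hR.1 hα).1 le_rfl
        (le_normalizerIn hR.1) (fun x hx => le_normalizerIn hR.1 (autFn_mem α hx))
        fun x hx => autFn_mem α hx
    refine focal_le_of_good fun P f hf => ?_
    have := finite_of_le hf.le
    exact hbig (Nat.card S) 0 (by omega) P f hf Nat.card_pos
  -- a maximal normal subgroup
  obtain ⟨U₀, hU₀, hU₀ne⟩ := hcore
  obtain ⟨Q, ⟨hQ, hQne⟩, hmax⟩ : ∃ U, (F.IsNormal U ∧ U ≠ ⊥) ∧
      ∀ V, F.IsNormal V → U ≤ V → V = U := by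
    suffices h : ∀ n, ∀ U, F.IsNormal U → U ≠ ⊥ → Nat.card S - Nat.card U = n →
        ∃ V, (F.IsNormal V ∧ V ≠ ⊥) ∧ ∀ V', F.IsNormal V' → V ≤ V' → V' = V from
      h _ U₀ hU₀ hU₀ne rfl
    intro n
    induction n using Nat.strong_induction_on with
    | _ n ihn =>
    intro U hU hUne hn
    by_cases h : ∀ V', F.IsNormal V' → U ≤ V' → V' = U
    · exact ⟨U, ⟨hU, hUne⟩, h⟩
    push Not at h
    obtain ⟨V, hV, hUV, hne⟩ := h
    have := finite_of_le hV.1
    have h1 := Subgroup.card_le_of_le hV.1
    have h2 : Nat.card U < Nat.card V := lt_of_le_of_ne (Subgroup.card_le_of_le hUV) fun e =>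
      hne (Subgroup.eq_of_le_of_card_ge hUV e.ge).symm
    exact ihn _ (by omega) V hV (fun h => hUne (le_bot_iff.1 (h ▸ hUV))) rfl
  by_cases hQS : Q = S
  · subst hQS
    refine focal_le_of_good fun P f hf x hx => ?_
    obtain ⟨g, hg, hgP, -⟩ := (isNormal_iff.1 hQ).2 P f hf
    rw [← hgP x hx]
    exact hgoodS g (hg.mono le_sup_right) x (hf.le hx)
  have hQn := normalizes_of_stronglyClosed (Fusion.stronglyClosed_of_normal hQ)
  have hQNS : normalizerIn S Q = S := inf_eq_left.2 hQn
  haveI hQsn : (Q.subgroupOf S).Normal := ⟨fun x hx g =>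
    (Subgroup.mem_normalizer_iff.1 (hQn g.2) _).1 hx⟩
  -- modulo `Q`
  have hsup : ∀ y ∈ F.focalSubgroup, ∃ q ∈ Q, ∃ k ∈ K, y = q * k := by
    have hKN : K ≤ Subgroup.normalizer (Q : Set Ω) :=
      (hKF.trans focalSubgroup_le).trans hQn
    suffices h : F.focalSubgroup ≤ Q ⊔ K by
      intro y hy
      have hy' : y ∈ (↑(Q ⊔ K) : Set Ω) := h hy
      rw [Subgroup.coe_mul_of_right_le_normalizer_left Q K hKN] at hy'
      obtain ⟨q, hq, k, hk, rfl⟩ := Set.mem_mul.1 hy'
      exact ⟨q, hq, k, hk, rfl⟩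
    have hQK : Q ⊔ K ≤ S := sup_le hQ.1 (hKF.trans focalSubgroup_le)
    set θ := QuotientGroup.mk' (Q.subgroupOf S)
    set S' : Subgroup (S ⧸ Q.subgroupOf S) := ⊤
    have D : QData F Q θ S' := quotientData (Fusion.stronglyClosed_of_normal hQ)
    obtain ⟨E, hE⟩ := D.exists_factorSystem
    have := D.finite_S'
    have hS' := D.isPGroup_S' hS
    set w' := inducedFunctor W S' with hw'def
    have hw' : w' ≤ S' := le_top
    have hV : normalizerIn S (preimageAlong θ w') = S := by
      rw [← D.preimage_normalizer hw', (func_fullyNormalized (F := E) hS' hW).1]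
      exact D.preimage_S'
    have hS'ne : S' ≠ ⊥ := by
      intro h
      refine hQS (le_antisymm hQ.1 fun x hx => ?_)
      have h1 : thF θ x = 1 := Subgroup.mem_bot.1 (h ▸ D.thF_mem hx)
      rw [thF_apply _ hx] at h1
      exact (D.ker_iff _).1 h1
    have hVn : ¬ F.IsNormal (preimageAlong θ w') := by
      intro hn
      refine func_ne_bot W hW hS' hS'ne (le_bot_iff.1 fun y hy => ?_)
      obtain ⟨x, hx, rfl⟩ := D.exists_eq (hw' hy)
      have h1 := (hmax _ hn (D.le_preimage _)).le (mem_preimageAlong.2 ⟨hx, hy⟩)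
      rw [Subgroup.mem_bot, thF_apply _ hx]
      exact (D.ker_iff _).2 h1
    obtain ⟨N', hN'⟩ := exists_normalizerSystem (F := E) hw'
    have hle := ih _ S' E (Or.inl (D.card_lt hQne)) inferInstance hS'
      (D.isSaturated_factor hS hF hE) N' hN'
    have hK' : N'.focalSubgroup ≤ imageAlong θ (Q ⊔ K) := by
      refine focal_normalizer_le hw' hN' fun M' f' hf' hwM _ _ hfw => ?_
      obtain ⟨hM', f, hf, he⟩ := (QData.isMap_factor_iff hE).1 hf'
      have hVM : preimageAlong θ w' ≤ preimageAlong θ M' := fun x hx =>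
        mem_preimageAlong.2 ⟨(mem_preimageAlong.1 hx).1, hwM (mem_preimageAlong.1 hx).2⟩
      have hfV : ∀ x ∈ preimageAlong θ w', f x ∈ preimageAlong θ w' := fun x hx =>
        mem_preimageAlong.2 ⟨hf.mem (hVM hx), he x (hVM hx) ▸ hfw _ (mem_preimageAlong.1 hx).2⟩
      have hg := htop _ (preimageAlong_le _ _) hV hVn _ f hf hVM hfV
      intro y hy
      obtain ⟨x, hx, rfl⟩ := D.exists_eq (hM' hy)
      have hxM : x ∈ preimageAlong θ M' := mem_preimageAlong.2 ⟨hx, hy⟩
      rw [he x hxM, ← thF_inv θ hx, ← thF_mul θ (S.inv_mem hx) (hf.mem hxM)]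
      exact mem_imageAlong.2 ⟨_, Subgroup.mem_sup_right (hg x hxM),
        S.mul_mem (S.inv_mem hx) (hf.mem hxM), rfl⟩
    refine focal_le_of_good fun P f hf x hx => ?_
    obtain ⟨g, hg, hgP, -⟩ := (isNormal_iff.1 hQ).2 P f hf
    rw [← hgP x hx]
    have hxP : x ∈ P ⊔ Q := Subgroup.mem_sup_left hx
    obtain ⟨f', hf', he⟩ := D.isMap_image hE hg le_sup_right
    have h1 := hK' (hle (inv_mul_map_mem_focal hf'
      (mem_imageAlong.2 ⟨x, hxP, hg.le hxP, rfl⟩)))
    rw [he x hxP, ← thF_inv θ (hg.le hxP), ← thF_mul θ (S.inv_mem (hg.le hxP)) (hg.mem hxP)] at h1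
    have h2 : x⁻¹ * g x ∈ preimageAlong θ (imageAlong θ (Q ⊔ K)) :=
      mem_preimageAlong.2 ⟨S.mul_mem (S.inv_mem (hg.le hxP)) (hg.mem hxP), h1⟩
    rw [D.preimage_image hQK, sup_eq_left.2 le_sup_left] at h2
    exact h2
  have hQfoc : Q ⊓ F.focalSubgroup ≤ K := by
    by_cases hc : centralizerIn S Q ≤ Q
    · -- the constrained case
      have hcen : F.IsCentric Q := ⟨hQ.1, fun R hR => by
        obtain ⟨g, hg⟩ := isConj_iff.1 hR
        rwa [show R = Q from eq_of_le_of_card hQ.1 (fun y hy => by
          obtain ⟨x, hx, rfl⟩ := hg.exists_eq hy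
          exact mapsTo_of_normal hQ hg.1 le_rfl x hx) hg.card_eq.ge]⟩
      have h : NC F p Q := ⟨inferInstance, inferInstance, hS, hF, hQ, hcen⟩
      have hm := h.isModel_emb
      obtain ⟨hLfin, hι, ⟨T, hTr⟩, hLc⟩ := id hm
      haveI := hLfin
      set ι := h.emb with hιdef
      rintro x ⟨hxQ, hxf⟩
      have hxS : x ∈ S := hQ.1 hxQ
      have h1 : F.focalSubgroup ≤ ((commutator h.Mdl).comap ι).map S.subtype := by
        refine (Subgroup.closure_le _).2 ?_
        rintro _ ⟨P, φ, y, hφ, rfl⟩
        have hP := (F.le_of_mem hφ).1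
        have hφS := (F.le_of_mem hφ).2
        obtain ⟨g, hg⟩ := (hι.2 P hP φ hφS).1 hφ
        refine ⟨⟨(y : Ω), hP y.2⟩⁻¹ * ⟨φ y, hφS y⟩, ?_, rfl⟩
        show ι _ ∈ commutator h.Mdl
        rw [map_mul, map_inv, hg y]
        have := Subgroup.commutator_mem_commutator (Subgroup.mem_top ((ι ⟨(y : Ω), hP y.2⟩)⁻¹))
          (Subgroup.mem_top g)
        rw [← commutator_def] at this
        simpa [commutatorElement_def, mul_assoc] using this
      have hxc : ι ⟨x, hxS⟩ ∈ commutator h.Mdl := by
        obtain ⟨y, hy, hye⟩ := h1 hxf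
        obtain rfl : y = ⟨x, hxS⟩ := Subtype.ext hye
        exact hy
      have hxp : ι ⟨x, hxS⟩ ∈ Cfsg.pCore p h.Mdl := by
        obtain ⟨_, h2⟩ := mem_pre.1 ((model_core hm hS).ge (normal_le_core hQ hxQ))
        exact h2
      have h3 := hT h.Mdl T hLc _ hxp hxc
      set w := inducedFunctor W (T : Subgroup h.Mdl) with hwdef
      set Nm := Subgroup.normalizer (w : Set h.Mdl)
      have hwimg : ((inducedFunctor W S).subgroupOf S).map ι = w := by
        rw [hwdef, hTr]
        exact func_image hS hW ι hι.1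
      have hTN : (T : Subgroup h.Mdl) ≤ Nm := by
        intro t ht
        rw [hTr] at ht
        obtain ⟨s, rfl⟩ := ht
        show ι s ∈ Subgroup.normalizer (w : Set h.Mdl)
        rw [← hwimg]
        refine Subgroup.mem_normalizer_fintype fun y hy => ?_
        obtain ⟨v, hv, rfl⟩ := hy
        exact ⟨s * v * s⁻¹, Subgroup.mem_subgroupOf.2
          (normalizerIn_conj (hwN.ge s.2) (Subgroup.mem_subgroupOf.1 hv)), by simp⟩
      let T' : Sylow p Nm := T.subtype hTN
      have hfoc := Transfer.focalSubgroup_eq_of_coprime _ (Transfer.coprime_index_relIndex_sylow T')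
      obtain ⟨y, hy, hye⟩ : ι ⟨x, hxS⟩ ∈ (commutator Nm).map Nm.subtype := by
        rw [commutator_def, Subgroup.map_commutator, ← MonoidHom.range_eq_map, Subgroup.range_subtype]
        exact h3
      have hyT : y ∈ (T' : Subgroup Nm) := by
        show (y : h.Mdl) ∈ (T : Subgroup h.Mdl)
        rw [show (y : h.Mdl) = ι ⟨x, hxS⟩ from hye, hTr]
        exact ⟨_, rfl⟩
      have hy' : y ∈ (T' : Subgroup Nm).focalSubgroup := hfoc.ge ⟨hy, hyT⟩
      have hsub : (T' : Subgroup Nm).focalSubgroup ≤ ((K.subgroupOf S).map ι).comap Nm.subtype := by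
        rw [Subgroup.focalSubgroup_def, Subgroup.closure_le]
        rintro z ⟨hz, a, ha, u, rfl⟩
        obtain ⟨a₀, ha₀⟩ : (a : h.Mdl) ∈ ι.range := hTr ▸ ha
        have hconj : ((u : h.Mdl) * (ι a₀⁻¹) * (u : h.Mdl)⁻¹) ∈ ι.range := by
          have h4 := mul_mem (inv_mem ha) hz
          have h5 : ((a⁻¹ * ⁅a, u⁆ : Nm) : h.Mdl) ∈ (T : Subgroup h.Mdl) := h4
          rw [hTr] at h5
          simpa [commutatorElement_def, mul_assoc, map_inv, ha₀] using h5
        set M := Subgroup.zpowers ((a₀⁻¹ : S) : Ω) ⊔ inducedFunctor W S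
        have hMS : M ≤ S := sup_le (Subgroup.zpowers_le.2 (a₀⁻¹ : S).2) hwle
        have hrange : ∀ (v : Ω) (hv : v ∈ M), (u : h.Mdl) * ι ⟨v, hMS hv⟩ * (u : h.Mdl)⁻¹ ∈ ι.range := by
          intro v hv
          have hle : M ≤ (ι.range.comap ((MulAut.conj (u : h.Mdl)).toMonoidHom.comp ι)).map S.subtype := by
            refine sup_le (Subgroup.zpowers_le.2 ⟨_, hconj, rfl⟩) fun v hv => ?_
            refine ⟨⟨v, hwle hv⟩, ?_, rfl⟩
            show (u : h.Mdl) * ι ⟨v, hwle hv⟩ * (u : h.Mdl)⁻¹ ∈ ι.range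
            rw [← hTr]
            refine func_le W _ ((Subgroup.mem_normalizer_iff.1 u.2 _).1 ?_)
            exact hwimg.le ⟨_, hv, rfl⟩
          obtain ⟨⟨v', hvS⟩, hv', rfl⟩ := hle hv
          exact hv'
        obtain ⟨f, hf, hfe⟩ := conj_map hι hMS (u : h.Mdl) hrange
        have hfw : ∀ v ∈ inducedFunctor W S, f v ∈ inducedFunctor W S := by
          intro v hv
          obtain ⟨hvS, e⟩ := hfe v (Subgroup.mem_sup_right hv)
          have h6 : ι ⟨f v, hvS⟩ ∈ w := by
            rw [e]
            exact (Subgroup.mem_normalizer_iff.1 u.2 _).1 (hwimg.le ⟨⟨v, hwle hv⟩, hv, rfl⟩)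
          rw [← hwimg] at h6
          obtain ⟨v', hv', e'⟩ := h6
          have := hι.1 e'
          rw [this] at hv'
          exact hv'
        have ha₀M : ((a₀⁻¹ : S) : Ω) ∈ M := Subgroup.mem_sup_left (Subgroup.mem_zpowers _)
        have h7 := hgoodW M f hf le_sup_right hfw _ ha₀M
        obtain ⟨hfS, e⟩ := hfe _ ha₀M
        refine ⟨(a₀⁻¹)⁻¹ * ⟨f ((a₀⁻¹ : S) : Ω), hfS⟩, Subgroup.mem_subgroupOf.2 h7, ?_⟩
        rw [map_mul, map_inv, e, map_inv, inv_inv, ha₀]
        simp [commutatorElement_def, mul_assoc]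
      obtain ⟨v, hv, hve⟩ := hsub hy'
      have : v = ⟨x, hxS⟩ := hι.1 (hve.trans hye)
      exact (Subgroup.mem_subgroupOf.1 (this ▸ hv) : x ∈ K)
    · -- `Q C_S(Q)` is not normal
      set X := Q ⊔ centralizerIn S Q with hXdef
      have hXS : X ≤ S := sup_le hQ.1 inf_le_left
      have hXn : ¬ F.IsNormal X := fun h => hc fun x hx =>
        (hmax X h le_sup_left).le (Subgroup.mem_sup_right hx)
      have hXN : normalizerIn S X = S := by
        refine le_antisymm inf_le_left fun s hs => ?_
        have := finite_of_le hXS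
        refine mem_normalizerIn_of_conj hs fun x hx => ?_
        refine (IsMap.conj (F := F) hXS hs).forall_mem_sup le_sup_left le_sup_right
          (fun y hy => Subgroup.mem_sup_left ((Subgroup.mem_normalizer_iff.1 (hQn hs) y).1 hy))
          (fun y hy => Subgroup.mem_sup_right ?_) hx
        refine mem_centralizerIn_of_conj (S.mul_mem (S.mul_mem hs hy.1) (S.inv_mem hs)) fun z hz => ?_
        have h1 : s⁻¹ * z * s ∈ Q := by
          have := (Subgroup.mem_normalizer_iff.1 (hQn (S.inv_mem hs)) z).1 hz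
          simpa using this
        have h2 := centralizerIn_conj hy h1
        calc s * y * s⁻¹ * z * (s * y * s⁻¹)⁻¹ = s * (y * (s⁻¹ * z * s) * y⁻¹) * s⁻¹ := by group
          _ = z := by rw [h2]; group
      refine inf_focal_le hS hF hcomm hKF fun P f hf z hzP hzQ => ?_
      obtain ⟨g, hg, hgP, hgQ⟩ := (isNormal_iff.1 hQ).2 P f hf
      obtain ⟨α, hα, hαe⟩ := exists_aut_of_isIso (F := F) (P := Q) (f := g)
        ⟨hg.mono le_sup_right, eq_of_le_of_card hQ.1 (hg.img_le le_sup_right hgQ)
          (hg.card_img le_sup_right).ge⟩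
      obtain ⟨g', hg', hgα, hgX⟩ := exists_ext_centralizer hS hF hQ hα
      have h1 := htop X hXS hXN hXn X g' hg' le_rfl hgX z (Subgroup.mem_sup_left hzQ)
      rw [hgα z hzQ, autFn_apply α hzQ, hαe ⟨z, hzQ⟩] at h1
      rw [← hgP z hzP]
      exact h1
  intro y hy
  obtain ⟨q, hq, k, hk, rfl⟩ := hsup y hy
  refine K.mul_mem (hQfoc ⟨hq, ?_⟩) hk
  simpa using mul_mem hy (inv_mem (hKF hk))

end Cfsg.Agent.FusionTransfer
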