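/-
Functors controlling weak closure of central elements in saturated fusion systems.

Main results (namespace `Cfsg.Agent.FusionTransfer`):
* `mem_center_of_radicals`: a central element of `S` fixed by the automizers of the fully normalized
  centric subgroups is central in the system;
* `center_normalizer_mem`: if the `k`-th powers of central elements of the Sylow subgroup fixed by
  `N(W P)` are central in all constrained groups, then the `k`-th powers of elements of `Z(S)` central
  in `N_F(W S)` are central in `F`.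
-/
import Cfsg.Agent.Lib.FusionTransfer.Functor

set_option autoImplicit false

namespace Cfsg.Agent.FusionTransfer

open Cfsg Cfsg.FusionSystem Cfsg.Agent.Fusion Cfsg.Agent.FusionChain
open scoped Classical

universe u

variable {Ω : Type u} [Group Ω] {S : Subgroup Ω} {F : FusionSystem S} {p : ℕ}

theorem fixed_of_mem_center {z : Ω} (hz : z ∈ F.center) {P : Subgroup Ω} {f : Ω → Ω}
    (hf : IsMap F P f) (hzP : z ∈ P) : f z = z :=
  Biset.eq_of_mem_center hz hf hzP

/-- Goodness on the large domains containing `z` follows from the automizers of the large radicals. -/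
theorem fix_induction [Finite S] [Fact p.Prime] (hS : IsPGroup p S) (hF : F.IsSaturated p)
    (z : Ω) (t : ℕ)
    (hbase : ∀ R : Subgroup Ω, F.IsFullyNormalized R → F.IsCentric R → t < Nat.card R → z ∈ R →
      ∀ α ∈ F.autGroup R, autFn α z = z)
    {P : Subgroup Ω} {f : Ω → Ω} (hf : IsMap F P f) : z ∈ P → t < Nat.card P → f z = z := by
  refine alperin_induction hS hF (fun P f => z ∈ P → t < Nat.card P → f z = z) ?_ ?_ ?_ ?_ hf
  · intro P f g _ h e hz ht
    rw [← e z hz]
    exact h hz ht
  · intro P P' f hf' hle h hz ht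
    have := finite_of_le hf'.le
    exact h (hle hz) (lt_of_lt_of_le ht (Subgroup.card_le_of_le hle))
  · intro P P' f g hf' hg hfP h h' hz ht
    have hP' : Nat.card P ≤ Nat.card P' := by
      have := finite_of_le hg.le
      rw [← hf'.card_img le_rfl]
      exact Subgroup.card_le_of_le (hf'.img_le le_rfl hfP)
    show g (f z) = z
    rw [h hz ht]
    exact h' ((h hz ht) ▸ hfP z hz) (lt_of_lt_of_le ht hP')
  · intro R hR hc _ α hα _ hz ht
    exact hbase R hR hc ht hz α hα

/-- A criterion for central elements. -/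
theorem mem_center_of_radicals [Finite S] [Fact p.Prime] (hS : IsPGroup p S) (hF : F.IsSaturated p)
    {z : Ω} (hzS : z ∈ S) (hzc : z ∈ Subgroup.centralizer (S : Set Ω))
    (hfix : ∀ R : Subgroup Ω, F.IsFullyNormalized R → F.IsCentric R → z ∈ R →
      ∀ α ∈ F.autGroup R, autFn α z = z) : z ∈ F.center := by
  set Z := Subgroup.zpowers z
  have hZS : Z ≤ S := Subgroup.zpowers_le.2 hzS
  have hall : ∀ g : Ω → Ω, ∀ M, IsMap F M g → z ∈ M → g z = z → ∀ w ∈ Z, g w = w := by
    intro g M hg hzM hgz w hw
    obtain ⟨n, rfl⟩ := hw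
    induction n using Int.induction_on with
    | zero => simp [hg.map_one]
    | succ m ih =>
      show g (z ^ ((m : ℤ) + 1)) = z ^ ((m : ℤ) + 1)
      rw [zpow_add_one, hg.map_mul (zpow_mem hzM _) hzM, hgz]
      exact congrArg (· * z) ih
    | pred m ih =>
      show g (z ^ (-(m : ℤ) - 1)) = z ^ (-(m : ℤ) - 1)
      rw [zpow_sub_one, hg.map_mul (zpow_mem hzM _) (inv_mem hzM), hg.map_inv hzM, hgz]
      exact congrArg (· * z⁻¹) ih
  have hext : ∀ P f, IsMap F P f → ∃ g, IsMap F (P ⊔ Z) g ∧ (∀ x ∈ P, g x = f x) ∧ g z = z := by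
    intro P f hf
    refine alperin_induction hS hF
      (fun P f => ∃ g, IsMap F (P ⊔ Z) g ∧ (∀ x ∈ P, g x = f x) ∧ g z = z) ?_ ?_ ?_ ?_ hf
    · rintro P f g _ ⟨e, he, he1, he2⟩ hfg
      exact ⟨e, he, fun x hx => (he1 x hx).trans (hfg x hx), he2⟩
    · rintro P P' f _ hle ⟨e, he, he1, he2⟩
      exact ⟨e, he.mono (sup_le_sup_right hle Z), fun x hx => he1 x (hle hx), he2⟩
    · rintro P P' f g _ _ hfP ⟨e, he, he1, he2⟩ ⟨e', he', he1', he2'⟩
      refine ⟨fun x => e' (e x), he.comp he' fun x hx => ?_, fun x hx => ?_, ?_⟩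
      · exact he.forall_mem_sup le_sup_left le_sup_right
          (fun y hy => Subgroup.mem_sup_left (he1 y hy ▸ hfP y hy))
          (fun y hy => Subgroup.mem_sup_right
            ((hall e _ he (Subgroup.mem_sup_right (Subgroup.mem_zpowers z)) he2 y hy).symm ▸ hy)) hx
      · show e' (e x) = g (f x)
        rw [he1 x hx, he1' _ (hfP x hx)]
      · show e' (e z) = z
        rw [he2, he2']
    · intro R hR hc _ α hα _
      have hzR : z ∈ R := hc.2 R (isConj_refl F hR.1)
        ⟨hzS, Subgroup.mem_centralizer_iff.2 fun r hr =>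
          Subgroup.mem_centralizer_iff.1 hzc r (hR.1 hr)⟩
      refine ⟨autFn α, ?_, fun _ _ => rfl, hfix R hR hc hzR α hα⟩
      rw [sup_eq_left.2 (Subgroup.zpowers_le.2 hzR : Z ≤ R)]
      exact (isIso_autFn hR.1 hα).1
  refine (le_sSup (⟨hZS, fun P φ hφ => ?_⟩ : F.IsCentral Z) : Z ≤ F.center) (Subgroup.mem_zpowers z)
  obtain ⟨g, hg, hg1, hg2⟩ := hext P (toFn φ) (isMap_toFn hφ)
  obtain ⟨ψ, hψ, hψe⟩ := id hg
  refine ⟨ψ, hψ, fun x => ?_, fun x => ?_⟩
  · exact (hψe _ _).trans ((hg1 x x.2).trans (toFn_coe φ x))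
  · exact (hψe _ _).trans (hall g _ hg (Subgroup.mem_sup_right (Subgroup.mem_zpowers z)) hg2 x x.2)

/-- Functors controlling weak closure of `k`-th powers of central elements. -/
theorem center_normalizer_mem [Fact p.Prime] (W : ∀ (Q : Type u) [Group Q], Subgroup Q)
    (hW : IsCharPFunctor.{u} p W)
    (hWZ : ∀ (Q : Type u) [Group Q] [Finite Q], IsPGroup p Q → Subgroup.center Q ≤ W Q)
    (k : ℕ)
    (hloc : ∀ (G : Type u) [Group G] [Finite G] (P : Sylow p G),
      Subgroup.centralizer ((Cfsg.pCore p G : Subgroup G) : Set G) ≤ Cfsg.pCore p G →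
      ∀ y ∈ (P : Subgroup G), (∀ t ∈ (P : Subgroup G), t * y = y * t) →
        (∀ n ∈ Subgroup.normalizer ((inducedFunctor W (P : Subgroup G) : Subgroup G) : Set G),
          n * y ^ k = y ^ k * n) → ∀ g : G, g * y ^ k = y ^ k * g)
    {Ω : Type u} [Group Ω] {S : Subgroup Ω} [Finite S] (hS : IsPGroup p S) (F : FusionSystem S)
    (hF : F.IsSaturated p) (N : FusionSystem (normalizerIn S (inducedFunctor W S)))
    (hN : F.IsNormalizerSystem (inducedFunctor W S) N) {y : Ω} (hyS : y ∈ S)
    (hyc : y ∈ Subgroup.centralizer (S : Set Ω)) (hy : y ^ k ∈ N.center) : y ^ k ∈ F.center := by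
  refine system_induction (fun Ω _ S F => Finite S → IsPGroup p S → F.IsSaturated p →
    ∀ N : FusionSystem (normalizerIn S (inducedFunctor W S)),
      F.IsNormalizerSystem (inducedFunctor W S) N → ∀ y : Ω, y ∈ S →
        y ∈ Subgroup.centralizer (S : Set Ω) → y ^ k ∈ N.center → y ^ k ∈ F.center)
    (fun Ω _ S F ih hfin hS hF N hN y hyS hyc hy => ?_) Ω S F inferInstance hS hF N hN y hyS hyc hy
  set z := y ^ k with hzdef
  have hzS : z ∈ S := pow_mem hyS k
  have hzc : z ∈ Subgroup.centralizer (S : Set Ω) := pow_mem hyc k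
  -- membership in the values of the functor
  have hzW : ∀ T : Subgroup Ω, T ≤ S → z ∈ T → z ∈ inducedFunctor W T := by
    intro T hT hzT
    have := finite_of_le hT
    refine ⟨⟨z, hzT⟩, hWZ ↥T (hS.to_le hT) (Subgroup.mem_center_iff.2 fun g => Subtype.ext ?_), rfl⟩
    exact Subgroup.mem_centralizer_iff.1 hzc g (hT g.2)
  have hwle := func_le W S
  obtain ⟨hwN, -⟩ := func_fullyNormalized (F := F) hS hW
  -- maps preserving `W S`
  have hgoodW : ∀ M f, IsMap F M f → inducedFunctor W S ≤ M →
      (∀ x ∈ inducedFunctor W S, f x ∈ inducedFunctor W S) → f z = z := fun M f hf hM hfw =>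
    fixed_of_mem_center hy ((isMap_normalizer_iff hwle hN).2 ⟨hwN.symm ▸ hf.le,
      fun x hx => hwN.symm ▸ hf.mem hx, f, hf.mono (sup_le le_rfl hM), fun _ _ => rfl, hfw⟩)
      (hM (hzW S le_rfl hzS))
  -- normalizers of non-normal subgroups normal in `S`
  have htop : ∀ X : Subgroup Ω, X ≤ S → normalizerIn S X = S → ¬ F.IsNormal X →
      ∀ M f, IsMap F M f → X ≤ M → (∀ x ∈ X, f x ∈ X) → z ∈ M → f z = z := by
    intro X hX hXS hn M f hf hXM hfX hzM
    have hXfn : F.IsFullyNormalized X := ⟨hX, fun R _ =>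
      hXS.symm ▸ Subgroup.card_le_of_le inf_le_left⟩
    set T := normalizerIn S X
    obtain ⟨E, hE⟩ : ∃ E : FusionSystem T, F.IsNormalizerSystem X E :=
      exists_normalizerSystem (F := F) hX
    have hTS : T ≤ S := inf_le_left
    have : Finite T := finite_of_le hTS
    have hTp : IsPGroup p T := hS.to_le hTS
    have hwE : inducedFunctor W T = inducedFunctor W S :=
      congrArg (fun T : Subgroup Ω => inducedFunctor W T) hXS
    have hwX := func_le W T
    have hEsat := isSaturated_normalizer hS hF hXfn hE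
    obtain ⟨N', hN'⟩ := exists_normalizerSystem (F := E) hwX
    obtain ⟨hwTN, hwTfn⟩ := func_fullyNormalized (F := E) hTp hW
    have : Finite (normalizerIn T (inducedFunctor W T)) := finite_of_le (S := T) inf_le_left
    have hNp : IsPGroup p (normalizerIn T (inducedFunctor W T)) := hTp.to_le inf_le_left
    have hzN : z ∈ N'.center := by
      refine mem_center_of_radicals hNp
        (isSaturated_normalizer hTp hEsat hwTfn hN') (hwTN.ge (hXS.ge hzS))
        (Subgroup.mem_centralizer_iff.2 fun r hr => Subgroup.mem_centralizer_iff.1 hzc r (hTS hr.1))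
        fun R hR _ hzR α hα => ?_
      obtain ⟨-, -, f', hf', e, hf'w⟩ := (isMap_normalizer_iff hwX hN').1 (isIso_autFn hR.1 hα).1
      rw [← e z hzR]
      exact hgoodW _ f' (isMap_sub (sub_normalizer hE) hf') (hwE ▸ le_sup_right) (hwE ▸ hf'w)
    have hzE := ih Ω _ E (smaller_normalizer hX hn hE) inferInstance hTp hEsat N' hN' y
      (hXS.ge hyS) (Subgroup.mem_centralizer_iff.2 fun r hr =>
        Subgroup.mem_centralizer_iff.1 hyc r (hTS hr)) hzN
    exact fixed_of_mem_center hzE ((isMap_normalizer_iff hX hE).2 ⟨hf.le.trans hXS.ge,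
      fun x hx => hXS.ge (hf.mem hx), f, hf.mono (sup_le le_rfl hXM), fun _ _ => rfl, hfX⟩) hzM
  refine mem_center_of_radicals hS hF hzS hzc ?_
  by_cases hcore : ∃ U, F.IsNormal U ∧ U ≠ ⊥
  swap
  · -- no normal subgroup
    push Not at hcore
    have hbig : ∀ d t, Nat.card S ≤ t + d → ∀ P f, IsMap F P f → z ∈ P → t < Nat.card P →
        f z = z := by
      intro d
      induction d using Nat.strong_induction_on with
      | _ d ihd =>
      intro t hd P f hf hzP ht
      have hkey : ∀ n, ∀ X : Subgroup Ω, Nat.card S - Nat.card (normalizerIn S X) = n →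
          F.IsFullyNormalized X → X ≠ ⊥ → t < Nat.card (normalizerIn S X) →
          ∀ M f, IsMap F M f → X ≤ M → M ≤ normalizerIn S X →
            (∀ x ∈ M, f x ∈ normalizerIn S X) → (∀ x ∈ X, f x ∈ X) → z ∈ M → f z = z := by
        intro n
        induction n using Nat.strong_induction_on with
        | _ n ihn =>
        intro X hn hX hne htX M f hf hXM hM hfM hfX hzM
        have hnn : ¬ F.IsNormal X := fun h => hne (hcore X h)
        by_cases hXS : normalizerIn S X = S
        · exact htop X hX.1 hXS hnn M f hf hXM hfX hzM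
        set T := normalizerIn S X with hTdef
        obtain ⟨E, hE⟩ : ∃ E : FusionSystem T, F.IsNormalizerSystem X E :=
          exists_normalizerSystem (F := F) hX.1
        have hTS : T ≤ S := inf_le_left
        have : Finite T := finite_of_le hTS
        have hTp : IsPGroup p T := hS.to_le hTS
        have hTne : T ≠ ⊥ := fun h => hne (le_bot_iff.1 (h ▸ le_normalizerIn hX.1))
        have hyT : y ∈ T := by
          have := finite_of_le hX.1
          exact mem_normalizerIn_of_conj hyS fun x hx => by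
            rwa [← Subgroup.mem_centralizer_iff.1 hyc x (hX.1 hx), mul_inv_cancel_right]
        have hzT : z ∈ T := pow_mem hyT k
        have hZT := func_le W T
        set Z := inducedFunctor W T with hZdef
        have hZS := hZT.trans hTS
        have hzZ : z ∈ Z := hzW T hTS hzT
        have hZne : Z ≠ ⊥ := func_ne_bot W hW hTp hTne
        have hEsat := isSaturated_normalizer hS hF hX hE
        obtain ⟨N', hN'⟩ := exists_normalizerSystem (F := E) hZT
        obtain ⟨hwTN, hwTfn⟩ := func_fullyNormalized (F := E) hTp hW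
        obtain ⟨Y, g, hYn, hg, hgY, hgN⟩ := exists_fullyNormalized_map hS hF hZS
        set D := normalizerIn S Z
        have hlt : T < normalizerIn S T := lt_normalizerIn hS le_rfl (lt_of_le_of_ne hTS hXS)
        have hTD : Nat.card T < Nat.card D := by
          have : Finite (normalizerIn S T) := finite_of_le (S := S) inf_le_left
          have : Finite D := finite_of_le (S := S) inf_le_left
          refine lt_of_lt_of_le (lt_of_le_of_ne (Subgroup.card_le_of_le hlt.le) fun e =>
            hlt.ne (Subgroup.eq_of_le_of_card_ge hlt.le e.ge)) ?_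
          exact Subgroup.card_le_of_le (func_normalizer hS hW hTS)
        have hDY : Nat.card D ≤ Nat.card (normalizerIn S Y) := by
          have : Finite (normalizerIn S Y) := finite_of_le (S := S) inf_le_left
          rw [← hg.card_img le_rfl]
          exact Subgroup.card_le_of_le (hg.img_le le_rfl hgN)
        have hcardS : Nat.card (normalizerIn S Y) ≤ Nat.card S := Subgroup.card_le_of_le inf_le_left
        have hzD : z ∈ D := inf_le_inf_right _ hTS (hwTN.ge hzT)
        have hgz : g z = z := ihd (Nat.card S - Nat.card T) (by omega) (Nat.card T) (by omega)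
          D g hg hzD hTD
        have hYne : Y ≠ ⊥ := fun h => hZne (le_bot_iff.1 fun u hu => by
          have hu' : u ∈ D := le_normalizerIn hZS hu
          have h1 : g u ∈ Y := hgY ▸ hg.mem_img hu
          rw [h, Subgroup.mem_bot, ← hg.map_one] at h1
          exact Subgroup.mem_bot.2 (hg.inj hu' (one_mem _) h1))
        have : Finite (normalizerIn T Z) := finite_of_le (S := T) inf_le_left
        have hNp : IsPGroup p (normalizerIn T Z) := hTp.to_le inf_le_left
        have hzN : z ∈ N'.center := by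
          refine mem_center_of_radicals hNp
            (isSaturated_normalizer hTp hEsat hwTfn hN') (hwTN.ge hzT)
            (Subgroup.mem_centralizer_iff.2 fun r hr => Subgroup.mem_centralizer_iff.1 hzc r (hTS hr.1))
            fun R hR _ hzR α hα => ?_
          obtain ⟨hRN, hαN, f₀, hf₀, e, hf₀Z⟩ := (isMap_normalizer_iff hZT hN').1 (isIso_autFn hR.1 hα).1
          rw [← e z hzR]
          set M' := R ⊔ Z
          have hf' := isMap_sub (sub_normalizer hE) hf₀
          have hM'D : M' ≤ D := sup_le (hRN.trans (inf_le_inf_right _ hTS))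
            (le_normalizerIn hZS)
          have hfD : ∀ x ∈ M', f₀ x ∈ D := fun x hx => hf'.forall_mem_sup le_sup_left le_sup_right
            (fun u hu => by rw [e u hu]; exact inf_le_inf_right _ hTS (hαN u hu))
            (fun u hu => le_normalizerIn hZS (hf₀Z u hu)) hx
          obtain ⟨gi, hgi, hgil, -⟩ := ((hg.mono hM'D).isIso).symm
          have hcomp : IsMap F (img g M') (fun y => g (f₀ (gi y))) :=
            (hgi.1.comp hf' fun y hy => hgi.mem hy).comp hg fun y hy => hfD _ (hgi.mem hy)
          have hZM' : Z ≤ M' := le_sup_right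
          have hYM : Y ≤ img g M' := hgY ▸ hg.img_le (le_normalizerIn hZS)
            fun u hu => hg.mem_img (hZM' hu)
          have hY' : ∀ y ∈ Y, g (f₀ (gi y)) ∈ Y := by
            intro y hy
            rw [← hgY] at hy ⊢
            obtain ⟨u, hu, rfl⟩ := (hg.mem_img_iff (le_normalizerIn hZS)).1 hy
            rw [hgil u (hZM' hu)]
            exact hg.mem_img (hf₀Z u hu)
          have hzM' : z ∈ img g M' := hgz ▸ hg.mem_img (Q := M') (hZM' hzZ)
          have h1 : g (f₀ (gi z)) = z :=
            ihn (Nat.card S - Nat.card (normalizerIn S Y)) (by omega) Y rfl hYn hYne (by omega)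
              (img g M') _ hcomp hYM (hg.img_le hM'D fun x hx => hgN x (hM'D hx))
              (fun y hy => hgN _ (hfD _ (hgi.mem hy))) hY' hzM'
          have hgiz : gi z = z := by
            conv_lhs => rw [← hgz]
            exact hgil z (hZM' hzZ)
          rw [hgiz] at h1
          exact hg.inj (hfD z (hZM' hzZ)) hzD (h1.trans hgz.symm)
        have hzE := ih Ω _ E (smaller_normalizer hX.1 hnn hE) inferInstance hTp hEsat N' hN' y hyT
          (Subgroup.mem_centralizer_iff.2 fun r hr => Subgroup.mem_centralizer_iff.1 hyc r (hTS hr))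
          hzN
        exact fixed_of_mem_center hzE ((isMap_normalizer_iff hX.1 hE).2
          ⟨hM, hfM, f, hf.mono (sup_le le_rfl hXM), fun _ _ => rfl, hfX⟩) hzM
      refine fix_induction hS hF z t (fun R hR _ htR hzR α hα => ?_) hf hzP ht
      have := finite_of_le (S := S) (P := normalizerIn S R) inf_le_left
      have htN : t < Nat.card (normalizerIn S R) :=
        lt_of_lt_of_le htR (Subgroup.card_le_of_le (le_normalizerIn hR.1))
      by_cases hRne : R = ⊥
      · obtain hz1 : z = 1 := by rwa [hRne, Subgroup.mem_bot] at hzR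
        rw [hz1, (isIso_autFn hR.1 hα).1.map_one]
      exact hkey _ R rfl hR hRne htN R (autFn α) (isIso_autFn hR.1 hα).1 le_rfl
        (le_normalizerIn hR.1) (fun x hx => le_normalizerIn hR.1 (autFn_mem α hx))
        (fun x hx => autFn_mem α hx) hzR
    intro R hR _ hzR α hα
    have := finite_of_le hR.1
    exact hbig (Nat.card S) 0 (by omega) R _ (isIso_autFn hR.1 hα).1 hzR Nat.card_pos
  -- a maximal normal subgroup
  obtain ⟨U₀, hU₀, hU₀ne⟩ := hcore
  obtain ⟨Q, ⟨hQ, hQne⟩, hmax⟩ : ∃ U, (F.IsNormal U ∧ U ≠ ⊥) ∧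
      ∀ V, F.IsNormal V → U ≤ V → V = U := by
    suffices h : ∀ n, ∀ U, F.IsNormal U → U ≠ ⊥ → Nat.card S - Nat.card U = n →
        ∃ V, (F.IsNormal V ∧ V ≠ ⊥) ∧ ∀ V', F.IsNormal V' → V ≤ V' → V' = V from
      h _ U₀ hU₀ hU₀ne rfl
    intro n
    induction n using Nat.strong_induction_on with
    | _ n ihn =>
    intro U hU hUne hn
    by_cases h : ∀ V', F.IsNormal V' → U ≤ V' → V' = U
    · exact ⟨U, ⟨hU, hUne⟩, h⟩
    push Not at h
    obtain ⟨V, hV, hUV, hne⟩ := h
    have := finite_of_le hV.1
    have h1 := Subgroup.card_le_of_le hV.1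
    have h2 : Nat.card U < Nat.card V := lt_of_le_of_ne (Subgroup.card_le_of_le hUV) fun e =>
      hne (Subgroup.eq_of_le_of_card_ge hUV e.ge).symm
    exact ihn _ (by omega) V hV (fun h => hUne (le_bot_iff.1 (h ▸ hUV))) rfl
  by_cases hQS : Q = S
  · subst hQS
    intro R hR _ hzR α hα
    obtain ⟨g, hg, hgR, hgQ⟩ := (isNormal_iff.1 hQ).2 R _ (isIso_autFn hR.1 hα).1
    rw [← hgR z hzR]
    have hgS := hg.mono (le_sup_right : Q ≤ R ⊔ Q)
    exact hgoodW Q g hgS hwle fun x hx => func_mem hS hW
      ⟨hgS, eq_of_le_of_card le_rfl hgS.img_le_S (hgS.card_img le_rfl).ge⟩ hx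
  have hQn := normalizes_of_stronglyClosed (Fusion.stronglyClosed_of_normal hQ)
  have hQNS : normalizerIn S Q = S := inf_eq_left.2 hQn
  have hQfn : F.IsFullyNormalized Q := ⟨hQ.1, fun R _ =>
    hQNS.symm ▸ Subgroup.card_le_of_le inf_le_left⟩
  by_cases hc : centralizerIn S Q ≤ Q
  · -- the constrained case
    have hcen : F.IsCentric Q := ⟨hQ.1, fun R hR => by
      obtain ⟨g, hg⟩ := isConj_iff.1 hR
      rwa [show R = Q from eq_of_le_of_card hQ.1 (fun y hy => by
        obtain ⟨x, hx, rfl⟩ := hg.exists_eq hy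
        exact mapsTo_of_normal hQ hg.1 le_rfl x hx) hg.card_eq.ge]⟩
    have h : NC F p Q := ⟨inferInstance, inferInstance, hS, hF, hQ, hcen⟩
    have hm := h.isModel_emb
    obtain ⟨hLfin, hι, ⟨T, hTr⟩, hLc⟩ := id hm
    haveI := hLfin
    set ι := h.emb with hιdef
    set w := inducedFunctor W (T : Subgroup h.Mdl) with hwdef
    have hwimg : ((inducedFunctor W S).subgroupOf S).map ι = w := by
      rw [hwdef, hTr]
      exact func_image hS hW ι hι.1
    have hcentral : ∀ g : h.Mdl, g * ι ⟨y, hyS⟩ ^ k = ι ⟨y, hyS⟩ ^ k * g := by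
      refine hloc h.Mdl T hLc _ (hTr ▸ ⟨_, rfl⟩) (fun t ht => ?_) fun n hn => ?_
      · obtain ⟨s, rfl⟩ : t ∈ ι.range := hTr ▸ ht
        rw [← map_mul, ← map_mul]
        exact congrArg ι (Subtype.ext (Subgroup.mem_centralizer_iff.1 hyc s s.2))
      · have hrange : ∀ (v : Ω) (hv : v ∈ inducedFunctor W S),
            n * ι ⟨v, hwle hv⟩ * n⁻¹ ∈ ι.range := by
          intro v hv
          rw [← hTr]
          exact func_le W _ ((Subgroup.mem_normalizer_iff.1 hn _).1 (hwimg.le ⟨_, hv, rfl⟩))
        obtain ⟨f, hf, hfe⟩ := conj_map hι hwle n hrange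
        have hfw : ∀ v ∈ inducedFunctor W S, f v ∈ inducedFunctor W S := by
          intro v hv
          obtain ⟨hvS, e⟩ := hfe v hv
          have h6 : ι ⟨f v, hvS⟩ ∈ w := by
            rw [e]
            exact (Subgroup.mem_normalizer_iff.1 hn _).1 (hwimg.le ⟨⟨v, hwle hv⟩, hv, rfl⟩)
          rw [← hwimg] at h6
          obtain ⟨v', hv', e'⟩ := h6
          rw [hι.1 e'] at hv'
          exact hv'
        have hzw := hzW S le_rfl hzS
        obtain ⟨hfS, e⟩ := hfe z hzw
        have h7 := hgoodW _ f hf le_rfl hfw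
        have h8 : (⟨f z, hfS⟩ : S) = ⟨y, hyS⟩ ^ k := Subtype.ext (by rw [Subgroup.coe_pow]; exact h7)
        have h9 : (⟨z, hwle hzw⟩ : S) = ⟨y, hyS⟩ ^ k := Subtype.ext (by rw [Subgroup.coe_pow])
        rw [h8, h9, map_pow] at e
        calc n * ι ⟨y, hyS⟩ ^ k = n * ι ⟨y, hyS⟩ ^ k * n⁻¹ * n := by group
          _ = ι ⟨y, hyS⟩ ^ k * n := by rw [← e]
    intro R hR _ hzR α hα
    obtain ⟨φ, hφ, hφe⟩ := (isIso_autFn hR.1 hα).1
    obtain ⟨g, hg⟩ := (hι.2 R hR.1 φ (F.le_of_mem hφ).2).1 hφ
    have h1 := hg ⟨z, hzR⟩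
    have h2 : (⟨z, hR.1 hzR⟩ : S) = ⟨y, hyS⟩ ^ k := Subtype.ext (by rw [Subgroup.coe_pow])
    rw [show (⟨((⟨z, hzR⟩ : R) : Ω), hR.1 hzR⟩ : S) = ⟨y, hyS⟩ ^ k from h2, map_pow, hcentral g,
      mul_inv_cancel_right, ← map_pow ι] at h1
    have h3 := congrArg Subtype.val (hι.1 h1)
    rw [Subgroup.coe_pow] at h3
    exact (hφe z hzR).symm.trans h3
  -- `X = Q C_S(Q)` is not normal
  set C := centralizerIn S Q
  set X := Q ⊔ C with hXdef
  have hCS : C ≤ S := inf_le_left
  have hXS : X ≤ S := sup_le hQ.1 hCS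
  have hXn : ¬ F.IsNormal X := fun h => hc fun x hx =>
    (hmax X h le_sup_left).le (Subgroup.mem_sup_right hx)
  have hSC : ∀ s ∈ S, ∀ x ∈ C, s * x * s⁻¹ ∈ C := by
    intro s hs x hx
    refine mem_centralizerIn_of_conj (S.mul_mem (S.mul_mem hs hx.1) (S.inv_mem hs)) fun v hv => ?_
    have h1 : s⁻¹ * v * s ∈ Q := by
      have := (Subgroup.mem_normalizer_iff.1 (hQn (S.inv_mem hs)) v).1 hv
      simpa using this
    have h2 := centralizerIn_conj hx h1
    calc s * x * s⁻¹ * v * (s * x * s⁻¹)⁻¹ = s * (x * (s⁻¹ * v * s) * x⁻¹) * s⁻¹ := by group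
      _ = v := by rw [h2]; group
  have hXN : normalizerIn S X = S := by
    refine le_antisymm inf_le_left fun s hs => ?_
    have := finite_of_le hXS
    refine mem_normalizerIn_of_conj hs fun x hx => ?_
    exact (IsMap.conj (F := F) hXS hs).forall_mem_sup le_sup_left le_sup_right
      (fun v hv => Subgroup.mem_sup_left ((Subgroup.mem_normalizer_iff.1 (hQn hs) v).1 hv))
      (fun v hv => Subgroup.mem_sup_right (hSC s hs v hv)) hx
  have hyC : y ∈ C := ⟨hyS, Subgroup.mem_centralizer_iff.2 fun q hq =>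
    Subgroup.mem_centralizer_iff.1 hyc q (hQ.1 hq)⟩
  have hzC : z ∈ C := pow_mem hyC k
  have hCfin : Finite C := finite_of_le hCS
  have hCp : IsPGroup p C := hS.to_le hCS
  obtain ⟨CS, hCSs⟩ := exists_centralizerSystem (F := F) hQ.1
  -- maps fixing `Q` pointwise fix `z`
  have hQfix : ∀ h, IsMap F (Subgroup.zpowers z ⊔ Q) h → (∀ q ∈ Q, h q = q) → h z = z := by
    by_cases hsub : F.IsSubsystemOf CS
    · -- the central case
      intro h hh _
      have hzh : z ∈ Subgroup.zpowers z ⊔ Q := Subgroup.mem_sup_left (Subgroup.mem_zpowers z)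
      haveI hQsn : (Q.subgroupOf S).Normal := ⟨fun x hx g =>
        (Subgroup.mem_normalizer_iff.1 (hQn g.2) _).1 hx⟩
      set θ := QuotientGroup.mk' (Q.subgroupOf S) with hθ
      set S' : Subgroup (S ⧸ Q.subgroupOf S) := ⊤
      have D : QData F Q θ S' := quotientData (Fusion.stronglyClosed_of_normal hQ)
      obtain ⟨E, hE⟩ := D.exists_factorSystem
      have := D.finite_S'
      have hS' := D.isPGroup_S' hS
      set w' := inducedFunctor W S' with hw'def
      have hw' : w' ≤ S' := le_top
      obtain ⟨hw'N, hw'fn⟩ := func_fullyNormalized (F := E) hS' hW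
      have hV : normalizerIn S (preimageAlong θ w') = S := by
        rw [← D.preimage_normalizer hw', hw'N]
        exact D.preimage_S'
      have hS'ne : S' ≠ ⊥ := by
        intro h
        refine hQS (le_antisymm hQ.1 fun x hx => ?_)
        have h1 : thF θ x = 1 := Subgroup.mem_bot.1 (h ▸ D.thF_mem hx)
        rw [thF_apply _ hx] at h1
        exact (D.ker_iff _).1 h1
      have hVn : ¬ F.IsNormal (preimageAlong θ w') := by
        intro hn
        refine func_ne_bot W hW hS' hS'ne (le_bot_iff.1 fun u hu => ?_)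
        obtain ⟨x, hx, rfl⟩ := D.exists_eq (hw' hu)
        have h1 := (hmax _ hn (D.le_preimage _)).le (mem_preimageAlong.2 ⟨hx, hu⟩)
        rw [Subgroup.mem_bot, thF_apply _ hx]
        exact (D.ker_iff _).2 h1
      obtain ⟨N', hN'⟩ := exists_normalizerSystem (F := E) hw'
      have : Finite (normalizerIn S' w') := finite_of_le (S := S') inf_le_left
      have hEsat := D.isSaturated_factor hS hF hE
      have hyz : thF θ y ^ k = thF θ z := by
        rw [thF_apply θ hyS, thF_apply θ hzS, ← map_pow]
        rfl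
      have hyc' : thF θ y ∈ Subgroup.centralizer (S' : Set (S ⧸ Q.subgroupOf S)) := by
        refine Subgroup.mem_centralizer_iff.2 fun u hu => ?_
        obtain ⟨x, hx, rfl⟩ := D.exists_eq hu
        rw [← thF_mul θ hx hyS, ← thF_mul θ hyS hx, Subgroup.mem_centralizer_iff.1 hyc x hx]
      have hzN : thF θ z ∈ N'.center := by
        have hNp : IsPGroup p (normalizerIn S' w') := hS'.to_le inf_le_left
        refine mem_center_of_radicals hNp
          (isSaturated_normalizer hS' hEsat hw'fn hN') (hw'N.ge (D.thF_mem hzS)) ?_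
          fun R hR _ hzR α hα => ?_
        · rw [← hyz]
          exact pow_mem (Subgroup.centralizer_le (inf_le_left : normalizerIn S' w' ≤ S') hyc') k
        · obtain ⟨-, -, f', hf', e, hf'w⟩ := (isMap_normalizer_iff hw' hN').1 (isIso_autFn hR.1 hα).1
          rw [← e _ hzR]
          obtain ⟨hM', f, hf, he⟩ := (QData.isMap_factor_iff hE).1 hf'
          have hVM : preimageAlong θ w' ≤ preimageAlong θ (R ⊔ w') := fun x hx =>
            mem_preimageAlong.2 ⟨(mem_preimageAlong.1 hx).1,
              Subgroup.mem_sup_right (mem_preimageAlong.1 hx).2⟩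
          have hfV : ∀ x ∈ preimageAlong θ w', f x ∈ preimageAlong θ w' := fun x hx =>
            mem_preimageAlong.2
              ⟨hf.mem (hVM hx), he x (hVM hx) ▸ hf'w _ (mem_preimageAlong.1 hx).2⟩
          have hzM : z ∈ preimageAlong θ (R ⊔ w') :=
            mem_preimageAlong.2 ⟨hzS, Subgroup.mem_sup_left hzR⟩
          rw [he z hzM, htop _ (preimageAlong_le _ _) hV hVn _ f hf hVM hfV hzM]
      have hzE : thF θ z ∈ E.center := by
        rw [← hyz] at hzN ⊢
        exact ih _ S' E (Or.inl (D.card_lt hQne)) inferInstance hS' hEsat N' hN' _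
          (D.thF_mem hyS) hyc' hzN
      -- `z` moves only within `z Q`
      have hmod : ∀ (M : Subgroup Ω) (g : Ω → Ω), IsMap F M g → Q ≤ M → z ∈ M → z⁻¹ * g z ∈ Q := by
        intro M g hg hQM hzM
        obtain ⟨g', hg', he⟩ := D.isMap_image hE hg hQM
        have h1 := fixed_of_mem_center hzE hg' (mem_imageAlong.2 ⟨z, hzM, hzS, rfl⟩)
        rw [he z hzM] at h1
        exact (D.thF_eq_iff hzS (hg.mem hzM)).1 h1.symm
      have hQ1 : ∀ (M : Subgroup Ω) (g : Ω → Ω), IsMap F M g → ∀ q ∈ Q, q ∈ M → g q = q := by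
        intro M g hg q hq hqM
        obtain ⟨φ, hφ, hφe⟩ := hg
        obtain ⟨-, -, f', -, e, hfix⟩ :=
          (isMap_centralizer_iff hQ.1 hCSs).1 (⟨φ, hsub M hφ, hφe⟩ : IsMap CS M g)
        rw [← e q hqM]
        exact hfix q hq
      refine fix_induction hS hF z 0 (fun R hR hRc _ hzR α hα => ?_) hh hzh ?_
      · have := finite_of_le hR.1
        have hQR : Q ≤ R := fun q hq => hRc.2 R (isConj_refl F hR.1) ⟨hQ.1 hq,
          Subgroup.mem_centralizer_iff.2 fun r hr => by
            have h1 := hQ1 S _ (IsMap.conj le_rfl (hR.1 hr)) q hq (hQ.1 hq)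
            calc r * q = r * q * r⁻¹ * r := (inv_mul_cancel_right _ _).symm
              _ = q * r := by rw [h1]⟩
        let H : Subgroup (MulAut R) :=
          { carrier := {a | a ⟨z, hzR⟩ = ⟨z, hzR⟩}
            one_mem' := rfl
            mul_mem' := fun {a b} ha hb => by
              show a (b ⟨z, hzR⟩) = ⟨z, hzR⟩
              rw [hb, ha]
            inv_mem' := fun {a} ha => by
              show a⁻¹ ⟨z, hzR⟩ = ⟨z, hzR⟩
              conv_lhs => rw [← ha]
              exact MulAut.inv_apply_self _ a _ }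
        haveI := finite_mulAut (S := S) hR.1
        have hle : F.autGroup R ≤ H := by
          refine FusionNormal.autGroup_le_of_sylow_pResidual
            (isFullyAutomized_iff.1 (fullyAutomized_of_fullyNormalized hS hF hR)).2 ?_ ?_
          · intro a ha
            obtain ⟨s, hs, hsa⟩ := mem_autInducedBy_iff.1 ha
            refine Subtype.ext ((hsa ⟨z, hzR⟩).trans ?_)
            show s * z * s⁻¹ = z
            rw [Subgroup.mem_centralizer_iff.1 hzc s hs, mul_inv_cancel_right]
          · intro a ha hco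
            have hm := (isIso_autFn hR.1 ha).1
            set q := (⟨z, hzR⟩ : R)⁻¹ * a ⟨z, hzR⟩ with hq
            have hqQ : (q : Ω) ∈ Q := by
              have := hmod R _ hm hQR hzR
              rwa [autFn_apply a hzR] at this
            have haq : a q = q := by
              have := hQ1 R _ hm (q : Ω) hqQ q.2
              rw [autFn_apply a q.2] at this
              exact Subtype.ext this
            have hpow : ∀ m : ℕ, (a ^ m) ⟨z, hzR⟩ = ⟨z, hzR⟩ * q ^ m := by
              intro m
              induction m with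
              | zero => simp
              | succ m ih =>
                rw [pow_succ', MulAut.mul_apply, ih, map_mul, map_pow, haq, pow_succ', ← mul_assoc, hq,
                  mul_inv_cancel_left]
            have h1 := hpow (orderOf a)
            rw [pow_orderOf_eq_one, MulAut.one_apply, left_eq_mul] at h1
            obtain ⟨j, hj⟩ := (IsPGroup.iff_orderOf.1 (hS.to_le hR.1)) q
            have hq1 : q = 1 := orderOf_eq_one_iff.1 (Nat.eq_one_of_dvd_coprimes (hco.pow_right j)
              (orderOf_dvd_of_pow_eq_one h1) (hj ▸ dvd_rfl))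
            show a ⟨z, hzR⟩ = ⟨z, hzR⟩
            rw [hq, inv_mul_eq_one] at hq1
            exact hq1.symm
        rw [autFn_apply α hzR]
        exact congrArg Subtype.val (hle hα : α ⟨z, hzR⟩ = ⟨z, hzR⟩)
      · have := finite_of_le hh.le
        exact Nat.card_pos
    · -- induction through the centralizer system
      have hsmall : Smaller CS F := by
        by_cases hCeq : C = S
        · exact smaller_of_sub hCeq (fun P φ hφ => ((hCSs P).le hφ).1) hsub
        · exact Or.inl (lt_of_le_of_ne (Subgroup.card_le_of_le hCS) fun e =>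
            hCeq (eq_of_le_of_card le_rfl hCS e.ge))
      have hCsat : CS.IsSaturated p :=
        isSaturated_congr (NK_bot S Q) (fun P => (kSys_bot_hom hQ.1 P).trans (hCSs P).symm)
          (isSaturated_kSys hS hF (isFullyK_bot_iff.2 (fullyCentralized_of_fullyNormalized hS hF hQfn)))
      set wC := inducedFunctor W C
      have hwC := func_le W C
      obtain ⟨hwCN, hwCfn⟩ := func_fullyNormalized (F := CS) hCp hW
      obtain ⟨N', hN'⟩ := exists_normalizerSystem (F := CS) hwC
      have : Finite (normalizerIn C wC) := finite_of_le (S := C) inf_le_left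
      set V := Q ⊔ wC
      have hVS : V ≤ S := sup_le hQ.1 (hwC.trans hCS)
      have hVN : normalizerIn S V = S := by
        refine le_antisymm inf_le_left fun s hs => ?_
        have := finite_of_le hVS
        have hsC : s ∈ normalizerIn S C := mem_normalizerIn_of_conj hs (hSC s hs)
        refine mem_normalizerIn_of_conj hs fun x hx => ?_
        exact (IsMap.conj (F := F) hVS hs).forall_mem_sup le_sup_left le_sup_right
          (fun v hv => Subgroup.mem_sup_left ((Subgroup.mem_normalizer_iff.1 (hQn hs) v).1 hv))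
          (fun v hv => Subgroup.mem_sup_right (normalizerIn_conj (func_normalizer hS hW hCS hsC) hv)) hx
      have hzwC : z ∈ wC := hzW C hCS hzC
      have hzN : z ∈ N'.center := by
        have hNp : IsPGroup p (normalizerIn C wC) := hCp.to_le inf_le_left
        refine mem_center_of_radicals hNp
          (isSaturated_normalizer hCp hCsat hwCfn hN') (hwCN.ge hzC)
          (Subgroup.mem_centralizer_iff.2 fun r hr => Subgroup.mem_centralizer_iff.1 hzc r (hCS hr.1))
          fun R hR _ hzR α hα => ?_
        obtain ⟨-, -, f', hf', e, hf'w⟩ := (isMap_normalizer_iff hwC hN').1 (isIso_autFn hR.1 hα).1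
        rw [← e z hzR]
        obtain ⟨-, -, f'', hf'', e', hfix⟩ := (isMap_centralizer_iff hQ.1 hCSs).1 hf'
        have hzM : z ∈ R ⊔ wC := Subgroup.mem_sup_left hzR
        rw [← e' z hzM]
        have hVM : V ≤ R ⊔ wC ⊔ Q := sup_le le_sup_right (le_sup_right.trans le_sup_left)
        by_cases hVn : F.IsNormal V
        · exact hfix z ((hmax V hVn le_sup_left).le (Subgroup.mem_sup_right hzwC))
        · refine htop V hVS hVN hVn _ f'' hf'' hVM (fun x hx => ?_) (Subgroup.mem_sup_left hzM)
          exact hf''.forall_mem_sup (le_sup_left.trans hVM) (le_sup_right.trans hVM)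
            (fun q hq => Subgroup.mem_sup_left ((hfix q hq).symm ▸ hq))
            (fun u hu => Subgroup.mem_sup_right
              ((e' u (Subgroup.mem_sup_right hu)).symm ▸ hf'w u hu)) hx
      have hzCS := ih Ω _ CS hsmall inferInstance hCp hCsat N' hN' y hyC
        (Subgroup.mem_centralizer_iff.2 fun r hr => Subgroup.mem_centralizer_iff.1 hyc r (hCS hr)) hzN
      intro h hh hfix
      have hzh : z ∈ Subgroup.zpowers z ⊔ Q := Subgroup.mem_sup_left (Subgroup.mem_zpowers z)
      refine fixed_of_mem_center hzCS (P := Subgroup.zpowers z) ?_ (Subgroup.mem_zpowers z)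
      refine (isMap_centralizer_iff hQ.1 hCSs).2 ⟨Subgroup.zpowers_le.2 hzC, fun x hx => ?_,
        h, hh, fun _ _ => rfl, hfix⟩
      refine mem_centralizerIn_of_conj (hh.mem (Subgroup.mem_sup_left hx)) fun q hq => ?_
      rw [← hfix q hq, ← hh.map_conj (Subgroup.mem_sup_left hx) (Subgroup.mem_sup_right hq),
        centralizerIn_conj (Subgroup.zpowers_le.2 hzC hx) hq]
  intro R hR _ hzR α hα
  obtain ⟨g, hg, hgR, hgQ⟩ := (isNormal_iff.1 hQ).2 R _ (isIso_autFn hR.1 hα).1
  rw [← hgR z hzR]
  obtain ⟨β, hβ, hβe⟩ := exists_aut_of_isIso (F := F) (P := Q) (f := g)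
    ⟨hg.mono le_sup_right, eq_of_le_of_card hQ.1 (hg.img_le le_sup_right hgQ)
      (hg.card_img le_sup_right).ge⟩
  obtain ⟨g', hg', hgβ, hgX⟩ := exists_ext_centralizer hS hF hQ hβ
  have hzX : z ∈ X := Subgroup.mem_sup_right hzC
  have hg'z : g' z = z := htop X hXS hXN hXn X g' hg' le_rfl hgX hzX
  have hzg : z ∈ R ⊔ Q := Subgroup.mem_sup_left hzR
  have hgzX : g z ∈ X := by
    refine Subgroup.mem_sup_right (mem_centralizerIn_of_conj (hg.mem hzg) fun q hq => ?_)
    obtain ⟨u, hu, rfl⟩ : ∃ u ∈ Q, g u = q := by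
      refine ⟨(β⁻¹ ⟨q, hq⟩ : Q), Subtype.prop _, ?_⟩
      rw [← hβe]; simp
    rw [← hg.map_conj hzg (Subgroup.mem_sup_right hu), centralizerIn_conj hzC hu]
  have hiso : IsIso F X X g' := ⟨hg', eq_of_le_of_card hXS (hg'.img_le le_rfl hgX)
    (hg'.card_img le_rfl).ge⟩
  obtain ⟨gi, hgi, hgil, hgir⟩ := IsIso.symm hiso
  have hM : Subgroup.zpowers z ⊔ Q ≤ R ⊔ Q := sup_le_sup_right (Subgroup.zpowers_le.2 hzR) Q
  have hgq : ∀ q ∈ Q, gi (g q) = q := fun q hq => by
    have : g q = g' q := by
      rw [hgβ q hq, autFn_apply β hq, hβe ⟨q, hq⟩]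
    rw [this, hgil q (Subgroup.mem_sup_left hq)]
  have hzz : Subgroup.zpowers z ≤ (Subgroup.zpowers z ⊔ Q) := le_sup_left
  have hcomp : IsMap F (Subgroup.zpowers z ⊔ Q) (fun x => gi (g x)) := by
    refine (hg.mono hM).comp hgi.1 fun x hx => ?_
    refine (hg.mono hM).forall_mem_sup le_sup_left le_sup_right (fun u hu => ?_)
      (fun u hu => Subgroup.mem_sup_left (hgQ u hu)) hx
    obtain ⟨n, rfl⟩ := hu
    show g (z ^ n) ∈ X
    have hzp : ∀ m : ℤ, g (z ^ m) = g z ^ m := by
      intro m
      induction m using Int.induction_on with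
      | zero => simp [hg.map_one]
      | succ m ih => rw [zpow_add_one, zpow_add_one, hg.map_mul (zpow_mem hzg _) hzg, ih]
      | pred m ih =>
        rw [zpow_sub_one, zpow_sub_one, hg.map_mul (zpow_mem hzg _) (inv_mem hzg), hg.map_inv hzg, ih]
    rw [hzp]
    exact zpow_mem hgzX n
  have h1 : gi (g z) = z := hQfix _ hcomp hgq
  rw [← hgir (g z) hgzX, h1, hg'z]

end Cfsg.Agent.FusionTransfer
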